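import Groth.Agent.AVIdx.Simple
import Groth.Agent.AVFac.Kernel
import Groth.Agent.Lib.AVProj

/-!
An ample class is fixed by finitely many translations only.
-/

set_option linter.style.haveILetI false
set_option linter.unusedSectionVars false
set_option backward.isDefEq.respectTransparency false
set_option backward.isDefEq.respectTransparency.types false
set_option autoImplicit false

universe u

open CategoryTheory CategoryTheory.Limits MonoidalCategory CartesianMonoidalCategory MonObj GrpObj AlgebraicGeometry TopologicalSpace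

namespace Groth.Agent.AVSupp

open Groth.Agent Groth.Agent.H23 Groth.Agent.H23.TrivBasic Groth.Agent.InvX Groth.Agent.AVAmple Groth.Agent.AVPair
open scoped Groth.Agent.H23.PicMul

variable {k : Type u} [Field k] [IsAlgClosed k]

/-- Ampleness restricts along closed immersions of proper schemes. -/
theorem isAmple_pullback {X Y : Scheme.{u}} (f : X ⟶ Spec (CommRingCat.of k)) [IsProper f] (j : Y ⟶ X)
    [IsClosedImmersion j] {L : X.Modules} (hL : CohB1.IsAmple L) :
    CohB1.IsAmple ((Scheme.Modules.pullback j).obj L) :=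
  (S4381.result (j ≫ f) _).1 (S2359.result f j j.isClosedEmbedding.isEmbedding _ ((S4381.result f _).2 hL))

/-- The points of a proper scheme over an algebraically closed field are finite if the scheme is. -/
theorem finite_pts {B : Over (Spec (CommRingCat.of k))} [LocallyOfFiniteType B.hom] [Finite ↥B.left] :
    Finite (𝟙_ (Over (Spec (CommRingCat.of k))) ⟶ B) :=
  Finite.of_injective (fun b => b.left (IsLocalRing.closedPoint k)) fun a b h =>
    Over.OverMorphism.ext (congrArg Subtype.val ((pointEquivClosedPoint B.hom).injective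
      (a₁ := ⟨a.left, Over.w a⟩) (a₂ := ⟨b.left, Over.w b⟩) (Subtype.ext h)))

/-- An abelian variety with an ample class invariant under all translations is finite. -/
theorem finite_of_invariant_ample {B : Over (Spec (CommRingCat.of k))} [GrpObj B] [IsProper B.hom]
    [GeometricallyIntegral B.hom] {M : B.left.Modules} (hM : CohB1.IsAmple M)
    (hinv : ∀ b : 𝟙_ (Over (Spec (CommRingCat.of k))) ⟶ B, pl (tr b) (PicF.cl M) = PicF.cl M) :
    Finite ↥B.left := by
  haveI : IsIntegral B.left := GeometricallyIntegral.isIntegral_of_subsingleton B.hom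
  have hc : PicF.IsInvertibleCl (PicF.cl M) := ⟨M, rfl, hM.1⟩
  have hadd := CubeAb.isAdditive_of_invariant hc hinv
  have h1 : pl ((𝟙 B)⁻¹) (PicF.cl M) * PicF.cl M = 1 := by
    have := hadd.apply ((𝟙 B)⁻¹) (𝟙 B)
    rw [inv_mul_cancel, CubeAb.F_one hc] at this
    exact (congrArg (pl ((𝟙 B)⁻¹) (PicF.cl M) * ·) (pl_id (PicF.cl M)).symm).trans this.symm
  haveI : IsIso ((𝟙 B)⁻¹ : B ⟶ B).left := by
    refine ⟨((𝟙 B)⁻¹ : B ⟶ B).left, ?_, ?_⟩ <;>
      rw [← Over.comp_left, GrpObj.comp_inv, Category.comp_id, _root_.inv_inv, Over.id_left]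
  let ν := ((𝟙 B)⁻¹ : B ⟶ B).left
  have hM' : CohB1.IsAmple ((Scheme.Modules.pullback ν).obj M) := isAmple_pullback B.hom ν hM
  have hT := AmpleX.isAmple_tensor hM hM'.1 fun x => by
    obtain ⟨n, s, hs, -⟩ := hM'.2.2 x
    exact ⟨n, s, hs⟩
  obtain ⟨e⟩ : Nonempty (CohB1.tensorMod M ((Scheme.Modules.pullback ν).obj M) ≅ Coh.structureModule B.left) := by
    refine PicMul.cl_eq_iff.1 ?_
    rw [PicMul.cl_tensor, mul_comm]
    exact h1
  haveI := AmpleX.isQuasiAffine_of_isAmple (AmpleX.isAmple_of_iso e hT)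
  exact AVProj.finite_of_isProper_quasiAffine B.hom

variable {A : Over (Spec (CommRingCat.of k))} [GrpObj A] [IsProper A.hom] [GeometricallyIntegral A.hom]

/-- Only finitely many translations fix an ample class. -/
theorem finite_fixing_of_isAmple {L : A.left.Modules} (hL : CohB1.IsAmple L) {s : Γ(L, ⊤)} (hs : s ≠ 0) :
    Set.Finite {a : 𝟙_ (Over (Spec (CommRingCat.of k))) ⟶ A | pl (tr a) (PicF.cl L) = PicF.cl L} := by
  haveI : IsCommMonObj A := isCommMonObj_of_isProper_of_geometricallyIntegral A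
  have hc : PicF.IsInvertibleCl (PicF.cl L) := ⟨L, rfl, hL.1⟩
  let H := AVIdx.fixing hc
  obtain ⟨Z, hZ, hZiff⟩ := S12013.result k A L hL.1 (ofSect s)
    (fun h => hs (by rw [← one_ofSect s, h]; rfl))
  have hmem : ∀ a, AVFac.ptOf a ∈ Z ↔ a ∈ H := fun a => (hZiff a).trans PicMul.cl_eq_iff.symm
  have hη : η[A] = (1 : 𝟙_ (Over (Spec (CommRingCat.of k))) ⟶ A) := by
    rw [Hom.one_def, toUnit_unique (toUnit (𝟙_ _)) (𝟙 _), Category.id_comp]
  obtain ⟨B, iB, j, hj, hjc, hBp, hBi, hjS, F, hF⟩ := AVFac.exists_abelian_finite_index (S := Z)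
    ⟨hZ, (hmem _).2 (hη ▸ H.one_mem), fun a b ha hb => (hmem _).2 (H.mul_mem ((hmem a).1 ha) ((hmem b).1 hb)),
      fun a ha => (hmem _).2 (H.inv_mem ((hmem a).1 ha))⟩
  haveI : Finite ↥B.left := by
    refine finite_of_invariant_ample (M := (Scheme.Modules.pullback j.left).obj L) (isAmple_pullback A.hom j.left hL)
      fun b => ?_
    have hb : b ≫ j ∈ H := (hmem _).1 (hjS ⟨b.left (IsLocalRing.closedPoint k), rfl⟩)
    have e : tr b ≫ j = j ≫ tr (b ≫ j) := by
      show (𝟙 B * (toUnit B ≫ b)) ≫ j = j ≫ (𝟙 A * (toUnit A ≫ (b ≫ j)))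
      rw [MonObj.mul_comp, MonObj.comp_mul, Category.id_comp, Category.comp_id, Category.assoc, ← Category.assoc j,
        toUnit_unique (j ≫ toUnit A) (toUnit B)]
    show pl (tr b) (pl j (PicF.cl L)) = pl j (PicF.cl L)
    rw [pl_pl, e, ← pl_pl, show pl (tr (b ≫ j)) (PicF.cl L) = PicF.cl L from hb]
  haveI := finite_pts (B := B)
  refine (F.finite_toSet.prod (Set.finite_univ (α := 𝟙_ (Over (Spec (CommRingCat.of k))) ⟶ B))).image
    (fun p => p.1 * (p.2 ≫ j)) |>.subset fun a ha => ?_
  obtain ⟨f, hf, b, rfl⟩ := hF a ((hmem a).2 ha)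
  exact ⟨(f, b), ⟨hf, trivial⟩, rfl⟩

variable (A) in
/-- Only finitely many translations fix every class. -/
theorem finite_fixing_all : Set.Finite {a : 𝟙_ (Over (Spec (CommRingCat.of k))) ⟶ A |
    ∀ L : A.left.Modules, PicF.IsInvertible L → pl (tr a) (PicF.cl L) = PicF.cl L} := by
  haveI : IsIntegral A.left := GeometricallyIntegral.isIntegral_of_subsingleton A.hom
  obtain ⟨L, hL⟩ := AVProj.exists_isAmple (X := A)
  obtain ⟨x⟩ : Nonempty A.left := inferInstance
  obtain ⟨n, s, hxs, -⟩ := hL.2.2 x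
  have hL' := AmpleX.isAmple_tensorPow hL n.succ_pos
  refine (finite_fixing_of_isAmple hL' (s := one s) (AVProj.ne_zero_of_mem_locus (x := x) ?_)).subset
    fun a ha => ha _ hL'.1
  show x ∈ CohB1.genLocus _ (ofSect (one s))
  rwa [ofSect_one]

end Groth.Agent.AVSupp
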