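import Groth.Agent.FMX.Derived
import Mathlib.CategoryTheory.Preadditive.AdditiveFunctor

/-!
Cohomology sheaves of derived twists by invertible modules.
-/

set_option linter.style.haveILetI false
set_option backward.isDefEq.respectTransparency false
set_option autoImplicit false

universe u

open CategoryTheory CategoryTheory.Limits AlgebraicGeometry

attribute [local instance] HasDerivedCategory.standard

namespace Groth.Agent.AVSupp

open KFlatLib

variable {X : Scheme.{u}}

/-- Twisting by modules composes. -/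
noncomputable def tensorRightCompIso (M N : X.Modules) :
    DCoh.tensorRightMod M ⋙ DCoh.tensorRightMod N ≅ DCoh.tensorRightMod (CohB1.tensorMod M N) :=
  NatIso.ofComponents (fun K => (((tensorAssocSch (X := X)).app K).app M).app N) fun {K K'} φ =>
    congrArg (fun τ => NatTrans.app τ N) (congrArg (fun τ => NatTrans.app τ M)
      ((tensorAssocSch (X := X)).hom.naturality φ))

/-- Twisting by an invertible module is an equivalence. -/
theorem isEquivalence_tensorRightMod {M : X.Modules} (hM : PicF.IsInvertible M) :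
    (DCoh.tensorRightMod M).IsEquivalence := by
  obtain ⟨N, -, ⟨e⟩⟩ := H23.PicInv.exists_inverse hM
  let e' := (H23.PicMul.comm N M).some ≪≫ e
  let u : DCoh.tensorRightMod M ⋙ DCoh.tensorRightMod N ≅ 𝟭 X.Modules :=
    tensorRightCompIso M N ≪≫ (DCoh.tensorBi (X := X)).flip.mapIso e ≪≫ tensorStructureIso X
  let c : DCoh.tensorRightMod N ⋙ DCoh.tensorRightMod M ≅ 𝟭 X.Modules :=
    tensorRightCompIso N M ≪≫ (DCoh.tensorBi (X := X)).flip.mapIso e' ≪≫ tensorStructureIso X
  exact (CategoryTheory.Equivalence.mk _ _ u.symm c).isEquivalence_functor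

/-- Cohomology sheaves commute with twists by invertible modules. -/
theorem nonempty_hd_ltm {M : X.Modules} (hM : PicF.IsInvertible M) [DCoh.HasLTensorMod M]
    (G : DCoh.D X) (i : ℤ) :
    Nonempty (DCoh.HD ((DCoh.LTensorMod M).obj G) i ≅ CohB1.tensorMod (DCoh.HD G i) M) := by
  haveI := isEquivalence_tensorRightMod hM
  haveI : (DCoh.tensorRightMod M).PreservesHomology := Functor.preservesHomologyOfExact _
  obtain ⟨K, ⟨e⟩⟩ : ∃ K, Nonempty (DerivedCategory.Q.obj K ≅ G) :=
    ⟨_, ⟨DerivedCategory.Q.objObjPreimageIso G⟩⟩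
  let K' := (kRes X).obj K
  let e' : DerivedCategory.Q.obj K' ≅ G := (resQIso X).app K ≪≫ e
  let h₁ : DCoh.HD ((DCoh.LTensorMod M).obj G) i ≅ ((tensorModCx M).obj K').homology i :=
    (DerivedCategory.homologyFunctor X.Modules i).mapIso ((DCoh.LTensorMod M).mapIso e'.symm) ≪≫
      hdLTensorModIso M (isKFlat_kRes K) i
  let h₂ : ((tensorModCx M).obj K').homology i ≅ (DCoh.tensorRightMod M).obj (K'.homology i) :=
    (K'.sc i).mapHomologyIso (DCoh.tensorRightMod M)
  let h₃ : K'.homology i ≅ DCoh.HD G i :=
    ((DerivedCategory.homologyFunctorFactors X.Modules i).app K').symm ≪≫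
      (DerivedCategory.homologyFunctor X.Modules i).mapIso e'
  exact ⟨h₁ ≪≫ h₂ ≪≫ (DCoh.tensorRightMod M).mapIso h₃⟩

end Groth.Agent.AVSupp
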