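import Groth.Agent.InvX.Tensor
import Groth.Agent.AmpleX.Extend
import Groth.Agent.QCoh.Stalk
import Groth.Agent.H23.ZeroSec
import Groth.Agent.H23.RatSec
import Groth.Agent.H23.TrivBasic
import Groth.Agent.S17376
import Groth.Prelude.Def_DerSch
import Mathlib.LinearAlgebra.Determinant

/-!
The determinant trick: a coherent module on a normal integral scheme invariant under a twist forces a power
of the twist to be trivial.
-/

set_option linter.style.haveILetI false
set_option backward.isDefEq.respectTransparency false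
set_option backward.isDefEq.respectTransparency.types false
set_option autoImplicit false

universe u

open CategoryTheory CategoryTheory.Limits AlgebraicGeometry TopologicalSpace Opposite MonoidalCategory
open scoped TensorProduct

namespace Groth.Agent.AVSupp

open Groth.Agent Groth.Agent.AModX

/-- An endomorphism preserving a spanning finite submodule has integral determinant. -/
theorem isIntegral_det_of_preserves {R K V : Type*} [CommRing R] [Field K] [Algebra R K] [AddCommGroup V]
    [Module K V] [Module R V] [IsScalarTower R K V] [FiniteDimensional K V] (T : Submodule R V) (hT : T.FG)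
    (hspan : Submodule.span K (T : Set V) = ⊤) (a : V →ₗ[K] V) (ha : ∀ t ∈ T, a t ∈ T) :
    IsIntegral R (LinearMap.det a) := by
  classical
  haveI : Module.Finite R T := Module.Finite.iff_fg.2 hT
  let a' : T →ₗ[R] T := ((a.restrictScalars R).comp T.subtype).codRestrict T fun t => ha t t.2
  obtain ⟨P, hPm, hP⟩ := Algebra.IsIntegral.isIntegral (R := R) a'
  rw [← Polynomial.aeval_def] at hP
  have key : ∀ (Q : Polynomial R) (t : T), Polynomial.aeval a Q (t : V) = (Polynomial.aeval a' Q t : V) := by
    intro Q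
    induction Q using Polynomial.induction_on' with
    | add p q hp hq => intro t; simp [hp, hq]
    | monomial n c =>
      intro t
      have hpow : ∀ (n : ℕ) (t : T), (a ^ n) (t : V) = ((a' ^ n) t : V) := by
        intro n
        induction n with
        | zero => intro t; rfl
        | succ n ih =>
          intro t
          rw [pow_succ, pow_succ, Module.End.mul_apply, Module.End.mul_apply]
          exact ih (a' t)
      rw [Polynomial.aeval_monomial, Polynomial.aeval_monomial, Module.End.mul_apply, Module.End.mul_apply,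
        hpow, Module.algebraMap_end_apply, Module.algebraMap_end_apply]
      rfl
  have h0 : Polynomial.aeval a P = 0 :=
    LinearMap.ext_on hspan fun v hv => by rw [key P ⟨v, hv⟩, hP]; rfl
  let b := Module.finBasis K V
  rw [← LinearMap.det_toMatrix b]
  refine S17376.isIntegral_det _ ⟨P, hPm, ?_⟩
  rw [← Polynomial.aeval_def]
  have := Polynomial.aeval_algHom_apply ((LinearMap.toMatrixAlgEquiv b).toAlgHom.restrictScalars R) a P
  rw [h0, map_zero] at this
  exact this

variable {X : Scheme.{u}} {F M : X.Modules} (θ : CohB1.tensorMod F M ≅ F)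

/-- The endomorphism of a stalk given by a section of the twist. -/
noncomputable def twistEnd {x : X} {W : X.Opens} (hx : x ∈ W) (m : Γ(M, W)) :
    F.presheaf.stalk x →ₗ[X.presheaf.stalk x] F.presheaf.stalk x :=
  ((DerSch.stalkFunctor X x).map θ.hom).hom.comp
    ((((KFlatLib.stalkP x).map (KFlatLib.unitShP (CohB1.toPMod F ⊗ CohB1.toPMod M))).hom.comp
      (KFlatLib.tensorStalkEquiv (CohB1.toPMod F) (CohB1.toPMod M)).toLinearMap).comp
      ((TensorProduct.mk (X.presheaf.stalk x) (KFlatLib.stalkMod x (CohB1.toPMod F))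
        (KFlatLib.stalkMod x (CohB1.toPMod M))).flip (KFlatLib.germP (CohB1.toPMod M) W hx m)))

theorem twistEnd_germ {x : X} {W U : X.Opens} (hx : x ∈ W) (m : Γ(M, W)) (h : U ≤ W) (hxU : x ∈ U)
    (f : Γ(F, U)) : twistEnd θ hx m (F.presheaf.germ U x hxU f) =
      F.presheaf.germ U x hxU (θ.hom.app U (InvX.tmul f (res M h m))) := by
  let P := CohB1.toPMod F
  let Q := CohB1.toPMod M
  show (DerSch.stalkFunctor X x).map θ.hom (((KFlatLib.stalkP x).map (KFlatLib.unitShP (P ⊗ Q))).hom
    (KFlatLib.tensorStalkEquiv P Q (KFlatLib.germP P U hxU f ⊗ₜ KFlatLib.germP Q W hx m))) = _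
  rw [← DerSch.stalkFunctor_map_germ x θ.hom U hxU]
  refine congrArg _ ?_
  rw [show KFlatLib.germP Q W hx m = KFlatLib.germP Q U hxU (res M h m) from
    (M.presheaf.germ_res_apply (homOfLE h) x hxU m).symm]
  exact (congrArg _ (KFlatLib.ofTensor_germ U hxU f (res M h m))).trans (KFlatLib.stalkModMap_germ _ U hxU _)

theorem twistEnd_bijective {x : X} {W : X.Opens} (hx : x ∈ W) {m : Γ(M, W)} (hm : InvX.IsFrame m) :
    Function.Bijective (twistEnd θ hx m) := by
  let P := CohB1.toPMod F
  let Q := CohB1.toPMod M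
  let g : KFlatLib.stalkMod x Q := KFlatLib.germP Q W hx m
  let e := LinearEquiv.ofBijective (LinearMap.toSpanSingleton (X.presheaf.stalk x) (KFlatLib.stalkMod x Q) g)
    (hm.germ_bijective hx)
  let T := (((TensorProduct.rid (X.presheaf.stalk x) (KFlatLib.stalkMod x P)).symm.trans
    (TensorProduct.congr (LinearEquiv.refl _ (KFlatLib.stalkMod x P)) e)).trans (KFlatLib.tensorStalkEquiv P Q))
  haveI := KFlatLib.isIso_stalk_unitShP (x := x) (P ⊗ Q)
  have hu := ConcreteCategory.bijective_of_isIso ((KFlatLib.stalkP x).map (KFlatLib.unitShP (P ⊗ Q)))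
  have hθ := ConcreteCategory.bijective_of_isIso ((DerSch.stalkFunctor X x).map θ.hom)
  have key : ∀ v : KFlatLib.stalkMod x P, T v = KFlatLib.tensorStalkEquiv P Q (v ⊗ₜ g) := fun v => by
    show KFlatLib.tensorStalkEquiv P Q (TensorProduct.congr (LinearEquiv.refl _ _) e
      ((TensorProduct.rid (X.presheaf.stalk x) (KFlatLib.stalkMod x P)).symm v)) = _
    rw [TensorProduct.rid_symm_apply, TensorProduct.congr_tmul]
    show KFlatLib.tensorStalkEquiv P Q (v ⊗ₜ ((1 : X.presheaf.stalk x) • g)) = _
    rw [one_smul]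
  have h2 : Function.Bijective fun v : KFlatLib.stalkMod x P => KFlatLib.tensorStalkEquiv P Q (v ⊗ₜ g) := by
    rw [← funext key]; exact T.bijective
  exact hθ.comp (hu.comp h2)

theorem stalkSpecializes_twistEnd {ξ x : X} (hs : ξ ⤳ x) {W : X.Opens} (hx : x ∈ W) (m : Γ(M, W))
    (v : F.presheaf.stalk x) : F.presheaf.stalkSpecializes hs (twistEnd θ hx m v) =
      twistEnd θ (hs.mem_open W.isOpen hx) m (F.presheaf.stalkSpecializes hs v) := by
  obtain ⟨V, hxV, f, rfl⟩ := TopCat.Presheaf.exists_germ_eq F.presheaf v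
  have hxU : x ∈ V ⊓ W := ⟨hxV, hx⟩
  rw [← InvX.germ_res' (inf_le_left : V ⊓ W ≤ V) hxU f, twistEnd_germ θ hx m inf_le_right hxU,
    TopCat.Presheaf.germ_stalkSpecializes_apply, TopCat.Presheaf.germ_stalkSpecializes_apply,
    twistEnd_germ θ _ m inf_le_right (hs.mem_open (V ⊓ W).isOpen hxU)]

theorem twistEnd_res {x : X} {W U : X.Opens} (h : U ≤ W) (hx : x ∈ U) (m : Γ(M, W)) :
    twistEnd θ hx (res M h m) = twistEnd θ (h hx) m := by
  refine LinearMap.ext fun v => ?_
  show _ = _
  simp only [twistEnd, LinearMap.comp_apply, LinearMap.flip_apply]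
  rw [show KFlatLib.germP (CohB1.toPMod M) U hx (res M h m) = KFlatLib.germP (CohB1.toPMod M) W (h hx) m from
    M.presheaf.germ_res_apply (homOfLE h) x hx m]

theorem twistEnd_smul {x : X} {W : X.Opens} (hx : x ∈ W) (g : Γ(X, W)) (m : Γ(M, W)) :
    twistEnd θ hx (g • m) = X.presheaf.germ W x hx g • twistEnd θ hx m := by
  simp only [twistEnd]
  rw [show KFlatLib.germP (CohB1.toPMod M) W hx (g • m) =
      X.presheaf.germ W x hx g • KFlatLib.germP (CohB1.toPMod M) W hx m from QCoh.germ_smul' M hx g m]
  rw [map_smul, LinearMap.comp_smul, LinearMap.comp_smul]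

/-- Sections of invertible modules on integral schemes are determined at the generic point. -/
theorem eq_of_germ_generic [IsIntegral X] (hM : PicF.IsInvertible M) {U : X.Opens} {s t : Γ(M, U)}
    (h : ∀ hξ : genericPoint X ∈ U, M.presheaf.germ U _ hξ s = M.presheaf.germ U _ hξ t) : s = t := by
  refine eq_of_locally _ _ fun p hp => ?_
  obtain ⟨W, hpW, e, he⟩ := InvX.exists_frame hM p
  refine ⟨U ⊓ W, inf_le_left, ⟨hp, hpW⟩, ?_⟩
  obtain ⟨a, ha⟩ := he.exists_coord inf_le_right (res M (inf_le_left : U ⊓ W ≤ U) s)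
  obtain ⟨b, hb⟩ := he.exists_coord inf_le_right (res M (inf_le_left : U ⊓ W ≤ U) t)
  have hξ : genericPoint X ∈ U ⊓ W := (genericPoint_specializes p).mem_open (U ⊓ W).isOpen ⟨hp, hpW⟩
  have h1 := h hξ.1
  rw [← InvX.germ_res' (inf_le_left : U ⊓ W ≤ U) hξ, ha, ← InvX.germ_res' (inf_le_left : U ⊓ W ≤ U) hξ t, hb,
    QCoh.germ_smul', QCoh.germ_smul', InvX.germ_res'] at h1
  have h2 := (he.germ_bijective hξ.2).1 h1
  rw [ha, hb, AlgebraicGeometry.germ_injective_of_isIntegral X (genericPoint X) hξ h2]

/-- A coherent module with nonzero generic stalk invariant under twists forces a fixed power of the twists to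
be trivial, on a normal integral scheme. -/
theorem exists_pow_triv [IsIntegral X] (hn : Pi1.IsNormalScheme X) (hF : Coh.IsCoh F)
    (hne : Nontrivial (F.presheaf.stalk (genericPoint X))) :
    ∃ r : ℕ, 0 < r ∧ ∀ N : X.Modules, PicF.IsInvertible N → Nonempty (CohB1.tensorMod F N ≅ F) →
      H23.TrivBasic.Triv (CohB1.tensorPow N r) := by
  classical
  letI : Module X.functionField (F.presheaf.stalk (genericPoint X)) :=
    inferInstanceAs (Module (X.presheaf.stalk (genericPoint X)) (F.presheaf.stalk (genericPoint X)))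
  haveI : FiniteDimensional X.functionField (F.presheaf.stalk (genericPoint X)) :=
    QCoh.finite_stalk_of_isFT hF.1 hF.2 (genericPoint X)
  let r := Module.finrank X.functionField (F.presheaf.stalk (genericPoint X))
  refine ⟨r, Module.finrank_pos, fun N hN ⟨θ⟩ => ?_⟩
  let D : ∀ {W : X.Opens}, genericPoint X ∈ W → Γ(N, W) → X.functionField := fun hW m =>
    LinearMap.det (M := F.presheaf.stalk (genericPoint X)) (A := X.functionField) (twistEnd θ hW m)
  have hDres : ∀ {W U : X.Opens} (h : U ≤ W) (hU : genericPoint X ∈ U) (m : Γ(N, W)),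
      D hU (res N h m) = D (h hU) m := fun h hU m =>
    congrArg (LinearMap.det (M := F.presheaf.stalk (genericPoint X)) (A := X.functionField))
      (twistEnd_res θ h hU m)
  have hDsmul : ∀ {W : X.Opens} (hW : genericPoint X ∈ W) (g : Γ(X, W)) (m : Γ(N, W)),
      D hW (g • m) = X.presheaf.germ W _ hW g ^ r * D hW m := fun hW g m =>
    (congrArg (LinearMap.det (M := F.presheaf.stalk (genericPoint X)) (A := X.functionField))
      (twistEnd_smul θ hW g m)).trans (LinearMap.det_smul _ _)
  -- determinants of frames are units of the local rings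
  have hunit : ∀ {W : X.Opens} {m : Γ(N, W)} (_ : InvX.IsFrame m) {x : X} (hx : x ∈ W),
      ∃ c : X.presheaf.stalk x, IsUnit c ∧ X.presheaf.stalkSpecializes (genericPoint_specializes x) c *
        D ((genericPoint_specializes x).mem_open W.isOpen hx) m = 1 := by
    intro W m hm x hx
    let hs : genericPoint X ⤳ x := genericPoint_specializes x
    have hξ : genericPoint X ∈ W := hs.mem_open W.isOpen hx
    letI alg : Algebra (X.presheaf.stalk x) X.functionField := (X.presheaf.stalkSpecializes hs).hom.toAlgebra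
    haveI : IsFractionRing (X.presheaf.stalk x) X.functionField := inferInstance
    obtain ⟨hdom, hic⟩ := hn x
    haveI := hdom
    haveI := hic
    letI : Module (X.presheaf.stalk x) (F.presheaf.stalk (genericPoint X)) :=
      Module.compHom _ (algebraMap (X.presheaf.stalk x) X.functionField)
    haveI : IsScalarTower (X.presheaf.stalk x) X.functionField (F.presheaf.stalk (genericPoint X)) :=
      IsScalarTower.of_algebraMap_smul fun _ _ => rfl
    let sp : F.presheaf.stalk x →ₗ[X.presheaf.stalk x] F.presheaf.stalk (genericPoint X) :=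
      { toFun := F.presheaf.stalkSpecializes hs
        map_add' := map_add _
        map_smul' := fun a v => H23.ZeroSec.stalkSpecializes_smul F hs a v }
    haveI := QCoh.finite_stalk_of_isFT hF.1 hF.2 x
    let T := LinearMap.range sp
    have hspan : Submodule.span X.functionField (T : Set (F.presheaf.stalk (genericPoint X))) = ⊤ := by
      refine eq_top_iff.2 fun v _ => ?_
      obtain ⟨_, ⟨U, hU, rfl⟩, hxU, -⟩ :=
        X.isBasis_affineOpens.exists_subset_of_mem_open (Set.mem_univ x) isOpen_univ
      have hU' : IsAffineOpen U := hU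
      have hξU : genericPoint X ∈ U := hs.mem_open U.isOpen hxU
      letI := QCoh.stalkModule F hξU
      haveI := QCoh.isLocalizedModule_germLin hF.1 hU' hξU
      obtain ⟨⟨t, a⟩, hta⟩ := IsLocalizedModule.surj (hU'.primeIdealOf ⟨_, hξU⟩).asIdeal.primeCompl
        (QCoh.germLin F hξU) v
      have hu : IsUnit (X.presheaf.germ U _ hξU (a : Γ(X, U))) :=
        (X.mem_basicOpen _ _ hξU).1 ((QCoh.mem_basicOpen_iff_notMem hU' hξU _).2 a.2)
      have hmem : F.presheaf.germ U _ hξU t ∈ (T : Set (F.presheaf.stalk (genericPoint X))) :=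
        ⟨F.presheaf.germ U x hxU t, TopCat.Presheaf.germ_stalkSpecializes_apply F.presheaf hxU hs t⟩
      have h3 : v = (hu.unit⁻¹ : _ˣ).val • F.presheaf.germ U _ hξU t := by
        rw [← show X.presheaf.germ U _ hξU (a : Γ(X, U)) • v = F.presheaf.germ U _ hξU t from hta,
          ← mul_smul, IsUnit.val_inv_mul, one_smul]
      rw [h3]
      exact Submodule.smul_mem _ _ (Submodule.subset_span hmem)
    have hfg : T.FG := by
      rw [show T = Submodule.map sp ⊤ from LinearMap.range_eq_map sp]
      exact Module.Finite.fg_top.map sp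
    let α : F.presheaf.stalk (genericPoint X) ≃ₗ[X.functionField] F.presheaf.stalk (genericPoint X) :=
      LinearEquiv.ofBijective (twistEnd θ hξ m) (twistEnd_bijective θ hξ hm)
    have h1 : IsIntegral (X.presheaf.stalk x) (LinearMap.det α.toLinearMap) := by
      refine isIntegral_det_of_preserves T hfg hspan α.toLinearMap ?_
      rintro _ ⟨v, rfl⟩
      exact ⟨twistEnd θ hx m v, stalkSpecializes_twistEnd θ hs hx m v⟩
    have h2 : IsIntegral (X.presheaf.stalk x) (LinearMap.det α.symm.toLinearMap) := by
      refine isIntegral_det_of_preserves T hfg hspan α.symm.toLinearMap ?_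
      rintro _ ⟨v, rfl⟩
      obtain ⟨w, hw⟩ := (twistEnd_bijective θ hx hm).2 v
      refine ⟨w, (α.symm_apply_eq.2 ?_).symm⟩
      show _ = twistEnd θ hξ m (sp w)
      exact (congrArg sp hw).symm.trans (stalkSpecializes_twistEnd θ hs hx m w)
    obtain ⟨c, hc⟩ := IsIntegrallyClosed.isIntegral_iff.1 h2
    obtain ⟨d, hd⟩ := IsIntegrallyClosed.isIntegral_iff.1 h1
    have hcd : algebraMap (X.presheaf.stalk x) X.functionField (c * d) = 1 := by
      rw [map_mul, hc, hd]
      exact α.det_symm_mul_det
    refine ⟨c, IsUnit.of_mul_eq_one d (IsFractionRing.injective (X.presheaf.stalk x) X.functionField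
      (hcd.trans (map_one _).symm)), ?_⟩
    rw [map_mul, hd] at hcd
    exact hcd
  -- local frames of the power with prescribed generic germ
  let ι := X
  have hloc : ∀ x : ι, ∃ (W : X.Opens) (hξ : genericPoint X ∈ W) (m : Γ(N, W)) (g : Γ(X, W)),
      x ∈ W ∧ InvX.IsFrame m ∧ IsUnit g ∧ X.presheaf.germ W _ hξ g * D hξ m = 1 := by
    intro x
    obtain ⟨W, hx, m, hm⟩ := InvX.exists_frame hN x
    obtain ⟨c, hc, hcD⟩ := hunit hm hx
    obtain ⟨V, hxV, g, rfl⟩ := X.presheaf.exists_germ_eq (x := x) c
    let U := X.basicOpen g ⊓ W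
    have hxU : x ∈ U := ⟨(X.mem_basicOpen g x hxV).2 hc, hx⟩
    have hUV : U ≤ V := inf_le_left.trans (X.basicOpen_le g)
    have hξU : genericPoint X ∈ U := (genericPoint_specializes x).mem_open U.isOpen hxU
    refine ⟨U, hξU, res N inf_le_right m, resR hUV g, hxU, hm.res inf_le_right, ?_, ?_⟩
    · have h := (RingedSpace.isUnit_res_basicOpen X.toRingedSpace g).map
        (X.presheaf.map (homOfLE (inf_le_left : U ≤ X.basicOpen g)).op).hom
      convert h using 1
      exact (QCoh.ringMap_map (X := X) _ _ g).symm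
    · rw [hDres, InvX.germ_resR']
      refine Eq.trans ?_ hcD
      rw [TopCat.Presheaf.germ_stalkSpecializes_apply]
  choose W hξ m g hxW hm hg hgD using hloc
  have hP : PicF.IsInvertible (CohB1.tensorPow N r) := InvX.isInvertible_tensorPow hN r
  obtain ⟨e, he, -⟩ := existsUnique_glue (M := CohB1.tensorPow N r) (V := ⊤) W (fun _ => le_top)
    (fun p _ => ⟨p, hxW p⟩) (fun x => g x • AmpleX.powElt (m x) r) (fun x y => by
      refine eq_of_germ_generic hP fun hxy => ?_
      obtain ⟨h, hh⟩ := (hm x).exists_coord inf_le_left (res N (inf_le_right : W x ⊓ W y ≤ W y) (m y))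
      have hD : D (hξ y) (m y) = X.presheaf.germ (W x ⊓ W y) _ hxy h ^ r * D (hξ x) (m x) := by
        rw [← hDres inf_le_right hxy, hh, hDsmul, hDres]
      have hk : X.presheaf.germ (W y) _ (hξ y) (g y) * X.presheaf.germ (W x ⊓ W y) _ hxy h ^ r =
          X.presheaf.germ (W x) _ (hξ x) (g x) := by
        have h1 := hgD x
        have h2 := hgD y
        rw [hD] at h2
        set gx := X.presheaf.germ (W x) _ (hξ x) (g x)
        set gy := X.presheaf.germ (W y) _ (hξ y) (g y)
        set hr := X.presheaf.germ (W x ⊓ W y) _ hxy h ^ r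
        calc gy * hr = gy * hr * (gx * D (hξ x) (m x)) := by rw [h1, mul_one]
          _ = (gy * (hr * D (hξ x) (m x))) * gx := by ring
          _ = gx := by rw [h2, one_mul]
      rw [res_smul, res_smul, AmpleX.res_powElt, AmpleX.res_powElt, hh, AmpleX.powElt_smul, QCoh.germ_smul',
        QCoh.germ_smul', QCoh.germ_smul', map_pow, InvX.germ_resR', InvX.germ_resR', ← mul_smul]
      exact congrArg (· • _) hk.symm)
  refine H23.TrivBasic.triv_of_frame (e := e) (H23.TrivBasic.isFrame_of_germwise fun x _ => ?_)
  exact ⟨W x, le_top, hxW x, (he x).symm ▸ (AmpleX.isFrame_powElt (hm x) r).isUnit_smul (hg x)⟩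

end Groth.Agent.AVSupp
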