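import Groth.Agent.AVSupp.Fixing
import Groth.Agent.Lib.AVPicZero

/-!
A variety on which all algebraically trivial classes become trivial moves by finitely many translations only.
-/

set_option linter.style.haveILetI false
set_option linter.unusedSectionVars false
set_option backward.isDefEq.respectTransparency false
set_option backward.isDefEq.respectTransparency.types false
set_option autoImplicit false

universe u

open CategoryTheory CategoryTheory.Limits MonoidalCategory CartesianMonoidalCategory MonObj GrpObj AlgebraicGeometry TopologicalSpace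

namespace Groth.Agent.AVSupp

open Groth.Agent Groth.Agent.H23 Groth.Agent.H23.TrivBasic Groth.Agent.AVPair Groth.Agent.AVAmple
open scoped Groth.Agent.H23.PicMul

variable {k : Type u} [Field k] [IsAlgClosed k] {A At : Over (Spec (CommRingCat.of k))} [GrpObj A] [IsProper A.hom]
  [GeometricallyIntegral A.hom] [GrpObj At] [LocallyOfFiniteType At.hom]
  {φ : ∀ T : Over (Spec (CommRingCat.of k)), PicF.Cl (PicF.XT A.hom T) → (T ⟶ At)}
  (hφ : AbDual.IsDualAV Scheme.fppfPrecoverage A At φ) {ξ : PicF.Cl (A ⊗ At).left}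
  (hξ : AbDual.IsPoincareCl A At φ ξ)
include hφ hξ

/-- The difference of a class and its translate is the restriction of the Poincare class at some point. -/
theorem exists_pl_tr {c : PicF.Cl A.left} (hc : PicF.IsInvertibleCl c)
    (a : 𝟙_ (Over (Spec (CommRingCat.of k))) ⟶ A) :
    ∃ x : 𝟙_ (Over (Spec (CommRingCat.of k))) ⟶ At,
      pl (tr a) c = c * pl (lift (𝟙 A) (toUnit A ≫ x)) ξ := by
  haveI : IsReduced (𝟙_ (Over (Spec (CommRingCat.of k)))).left :=
    inferInstanceAs (IsReduced (Spec (CommRingCat.of k)))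
  haveI : LocallyOfFiniteType (𝟙_ (Over (Spec (CommRingCat.of k)))).hom :=
    inferInstanceAs (LocallyOfFiniteType (𝟙 _))
  haveI : Subsingleton ↥(𝟙_ (Over (Spec (CommRingCat.of k)))).left :=
    inferInstanceAs (Subsingleton (PrimeSpectrum k))
  haveI : Nonempty ↥(𝟙_ (Over (Spec (CommRingCat.of k)))).left := inferInstanceAs (Nonempty (PrimeSpectrum k))
  have hpt : ∀ {d : PicF.Cl (𝟙_ (Over (Spec (CommRingCat.of k)))).left}, PicF.IsInvertibleCl d → d = 1 := by
    rintro d ⟨D, rfl, hD⟩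
    exact KLBasic.trivial_of_subsingleton hD
  obtain ⟨d, hd, hcd⟩ := exists_inv hc
  let mfd : PicF.Cl (A ⊗ A).left := pl (fst A A * snd A A) c * pl (fst A A) d * pl (snd A A) d
  have hmfd : PicF.IsInvertibleCl mfd :=
    PicMul.isInvertibleCl_mul (PicMul.isInvertibleCl_mul (isInv_pl _ hc) (isInv_pl _ hd)) (isInv_pl _ hd)
  have hmfd' : ∀ b : 𝟙_ (Over (Spec (CommRingCat.of k))) ⟶ A,
      pl (lift (𝟙 A) (toUnit A ≫ b)) mfd = pl (tr b) c * d := fun b => by
    simp only [mfd, map_mul, pl_pl, MonObj.comp_mul, lift_fst, lift_snd, pl_id, pl_const hd b, _root_.mul_one]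
  have hPZ : AVDual.PZ A A mfd := AVDual.pz_of_slice 1 hmfd (by
    rw [hmfd', show tr (1 : 𝟙_ (Over (Spec (CommRingCat.of k))) ⟶ A) = 𝟙 A from tr_one, pl_id, hcd])
  let x := a ≫ φ A mfd
  refine ⟨x, ?_⟩
  have hp1 : AVDual.PZ A At ξ := hξ.1
  have key : pl (A ◁ a) mfd = pl (A ◁ x) ξ := by
    refine AVDual.eq_of_phi hφ (AVDual.pz_pl a hPZ) (AVDual.pz_pl x hp1) ?_ 1 ?_
    · rw [AVDual.phi_pl hφ a hPZ, AVDual.phi_pl hφ x hp1, hξ.2.1, Category.comp_id]
    · exact (hpt (isInv_pl _ (isInv_pl _ hmfd))).trans (hpt (isInv_pl _ (isInv_pl _ (AVDual.pz_invertible hp1)))).symm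
  have h2 : pl (tr a) c * d = pl (lift (𝟙 A) (toUnit A ≫ x)) ξ := by
    have := congrArg (pl (lift (𝟙 A) (toUnit A))) key
    simp only [pl_pl, lift_whiskerLeft] at this
    rw [← hmfd']
    exact this
  calc pl (tr a) c = pl (tr a) c * (c * d) := by rw [hcd, _root_.mul_one]
    _ = c * (pl (tr a) c * d) := by rw [mul_left_comm]
    _ = _ := by rw [h2]

variable {Z : Over (Spec (CommRingCat.of k))} [IsProper Z.hom] [GeometricallyIntegral Z.hom] (q : Z ⟶ A)
  (hq : ∀ x : 𝟙_ (Over (Spec (CommRingCat.of k))) ⟶ At, pl q (pl (lift (𝟙 A) (toUnit A ≫ x)) ξ) = 1)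
include hq

/-- Differences of points of such a variety fix every class. -/
theorem fix_of_sweep (p p' : 𝟙_ (Over (Spec (CommRingCat.of k))) ⟶ Z) (L : A.left.Modules)
    (hL : PicF.IsInvertible L) : pl (tr ((p ≫ q)⁻¹ * (p' ≫ q))) (PicF.cl L) = PicF.cl L := by
  haveI : IsCommMonObj A := isCommMonObj_of_isProper_of_geometricallyIntegral A
  haveI : IsIntegral A.left := GeometricallyIntegral.isIntegral_of_subsingleton A.hom
  let c : PicF.Cl A.left := PicF.cl L
  have hc : PicF.IsInvertibleCl c := ⟨L, rfl, hL⟩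
  let m : Z ⊗ A ⟶ A := (fst Z A ≫ q) * snd Z A
  obtain ⟨d, hd, hcd⟩ := exists_inv (isInv_pl (fst Z A ≫ q) hc)
  obtain ⟨M, hMd, hM⟩ := PicMul.isInvertibleCl_mul (isInv_pl m hc) hd
  have hslice : ∀ a : 𝟙_ (Over (Spec (CommRingCat.of k))) ⟶ A,
      Triv ((Scheme.Modules.pullback (lift (𝟙 Z) (toUnit Z ≫ a)).left).obj M) := fun a => by
    refine (triv_iff _).2 ?_
    obtain ⟨x, hx⟩ := exists_pl_tr hφ hξ hc a
    have e1 : pl (lift (𝟙 Z) (toUnit Z ≫ a)) (pl m c) = pl q c := by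
      have e : lift (𝟙 Z) (toUnit Z ≫ a) ≫ m = q ≫ tr a := by
        show _ = q ≫ (𝟙 A * (toUnit A ≫ a))
        simp only [m, MonObj.comp_mul, lift_fst_assoc, lift_snd, Category.id_comp, Category.comp_id]
        rw [← Category.assoc q, toUnit_unique (q ≫ toUnit A) (toUnit Z)]
      rw [pl_pl, e, ← pl_pl, hx, map_mul, hq, _root_.mul_one]
    have e2 : pl q c * pl (lift (𝟙 Z) (toUnit Z ≫ a)) d = 1 := by
      have := congrArg (pl (lift (𝟙 Z) (toUnit Z ≫ a))) hcd
      simpa only [map_mul, map_one, pl_pl, lift_fst_assoc, Category.id_comp] using this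
    rw [hMd, map_mul, e1, e2]
  obtain ⟨N, -, ⟨e⟩⟩ := AVSeesaw.exists_base Z A M hM (AVSeesaw.triv_fibre_of_points Z A M hslice)
  have key : ∀ p : 𝟙_ (Over (Spec (CommRingCat.of k))) ⟶ Z, pl (tr (p ≫ q)) c = PicF.cl N := fun p => by
    have he : pl (snd Z A) (PicF.cl N) = pl m c * d :=
      ((PicGrp.cl_eq_cl_iff _ _).2 ⟨e⟩).trans hMd
    have h := congrArg (pl (lift (toUnit A ≫ p) (𝟙 A))) he
    have h2 : pl (lift (toUnit A ≫ p) (𝟙 A)) d = 1 := by
      have := congrArg (pl (lift (toUnit A ≫ p) (𝟙 A))) hcd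
      simpa only [map_mul, map_one, pl_pl, lift_fst_assoc, Category.assoc, pl_const hc (p ≫ q), _root_.one_mul] using this
    simp only [map_mul, pl_pl, m, MonObj.comp_mul, lift_snd, lift_fst_assoc, Category.assoc, h2,
      _root_.mul_one, pl_id] at h
    rw [h]
    show pl (𝟙 A * (toUnit A ≫ p ≫ q)) c = _
    rw [mul_comm]
  have h3 := congrArg (pl (tr (p ≫ q)⁻¹)) ((key p').trans (key p).symm)
  rwa [pl_pl, pl_pl, tr_tr, tr_tr, inv_mul_cancel, tr_one, pl_id] at h3

/-- Such a variety has finitely many points in the abelian variety. -/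
theorem finite_range_pts : (Set.range fun p : 𝟙_ (Over (Spec (CommRingCat.of k))) ⟶ Z => p ≫ q).Finite := by
  rcases isEmpty_or_nonempty (𝟙_ (Over (Spec (CommRingCat.of k))) ⟶ Z) with h | ⟨⟨p₀⟩⟩
  · exact Set.toFinite _
  · refine ((finite_fixing_all A).image fun a => (p₀ ≫ q) * a).subset ?_
    rintro _ ⟨p, rfl⟩
    exact ⟨(p₀ ≫ q)⁻¹ * (p ≫ q), fix_of_sweep hφ hξ q hq p₀ p, mul_inv_cancel_left _ _⟩

end Groth.Agent.AVSupp
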